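import Mathlib
import Groth.Agent.Lib.Helper8.KG4

/-!
# The zeroth flat multiplicity is at least one (S19208)
-/

set_option autoImplicit false
set_option linter.unusedSectionVars false
set_option linter.unusedVariables false
set_option linter.unusedSimpArgs false
set_option linter.style.haveILetI false
set_option maxHeartbeats 400000

namespace Groth.Agent.Lib.Helper6.FlatMult

open Filter Topology Polynomial

universe u

section Analysis

theorem tendsto_eval_div (P : ℝ[X]) (hP : P ≠ 0) :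
    Tendsto (fun x : ℝ => P.eval x / x ^ P.natDegree) atTop (𝓝 P.leadingCoeff) := by
  have hdeg : P.degree = (X ^ P.natDegree : ℝ[X]).degree := by
    rw [degree_X_pow, degree_eq_natDegree hP]
  have h := Polynomial.div_tendsto_atTop_leadingCoeff_div_of_degree_eq P (X ^ P.natDegree) hdeg
  simpa using h

theorem tendsto_eval_natCast_div (P : ℝ[X]) (hP : P ≠ 0) (k : ℕ) (hk : 0 < k) :
    Tendsto (fun n : ℕ => P.eval ((k : ℝ) * (n : ℝ)) / (n : ℝ) ^ P.natDegree) atTop
      (𝓝 (P.leadingCoeff * (k : ℝ) ^ P.natDegree)) := by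
  have hk' : (0 : ℝ) < k := by exact_mod_cast hk
  have h1 : Tendsto (fun n : ℕ => (k : ℝ) * (n : ℝ)) atTop atTop :=
    Tendsto.const_mul_atTop hk' tendsto_natCast_atTop_atTop
  have h2 := (tendsto_eval_div P hP).comp h1
  have h3 := h2.mul_const ((k : ℝ) ^ P.natDegree)
  refine h3.congr' ?_
  filter_upwards [eventually_gt_atTop 0] with n hn
  have hn' : (0 : ℝ) < n := by exact_mod_cast hn
  simp only [Function.comp]
  rw [mul_pow]
  field_simp

theorem exists_good_k (P : ℝ[X]) (hP : P ≠ 0) (N : ℕ)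
    (hpos : ∀ n : ℕ, N ≤ n → 0 < P.eval (n : ℝ)) (ε : ℝ) (hε : 0 < ε) :
    ∃ k : ℕ, N ≤ k ∧ 0 < k ∧
      (1 - ε) * P.eval (k : ℝ) ≤ P.leadingCoeff * (k : ℝ) ^ P.natDegree := by
  set a := P.leadingCoeff with ha
  set r := P.natDegree with hr
  have h1 : Tendsto (fun n : ℕ => P.eval (n : ℝ) / (n : ℝ) ^ r) atTop (𝓝 a) :=
    (tendsto_eval_div P hP).comp tendsto_natCast_atTop_atTop
  have ha0 : 0 ≤ a := by
    apply ge_of_tendsto h1
    filter_upwards [eventually_ge_atTop N] with n hn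
    exact div_nonneg (hpos n hn).le (by positivity)
  have hane : a ≠ 0 := leadingCoeff_ne_zero.2 hP
  have hapos : 0 < a := lt_of_le_of_ne ha0 (Ne.symm hane)
  have h2 : Tendsto (fun n : ℕ => (1 - ε) * (P.eval (n : ℝ) / (n : ℝ) ^ r)) atTop
      (𝓝 ((1 - ε) * a)) := h1.const_mul _
  have hlt : (1 - ε) * a < a := by nlinarith
  have h3 := h2.eventually_lt_const hlt
  obtain ⟨k, ⟨hk1, hk2⟩, hk3⟩ :=
    ((eventually_ge_atTop N).and (eventually_gt_atTop 0) |>.and h3).exists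
  refine ⟨k, hk1, hk2, ?_⟩
  have hk' : (0 : ℝ) < (k : ℝ) ^ r := by
    have : (0 : ℝ) < k := by exact_mod_cast hk2
    positivity
  have e : (1 - ε) * P.eval (k : ℝ) =
      ((1 - ε) * (P.eval (k : ℝ) / (k : ℝ) ^ r)) * (k : ℝ) ^ r := by
    field_simp
  rw [e]
  exact (mul_le_mul_of_nonneg_right hk3.le hk'.le)

end Analysis

section HS

open IsLocalRing

variable (O : Type u) [CommRing O] [IsNoetherianRing O] [IsLocalRing O]

theorem exists_HS (r : ℕ) (hr : ringKrullDim O = r) :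
    ∃ (P : ℚ[X]) (N : ℕ), P.natDegree = r ∧ ∀ n : ℕ, N ≤ n →
      ∃ ℓ : ℕ, Module.length O (O ⧸ (maximalIdeal O) ^ n) = ℓ ∧ (ℓ : ℚ) = P.eval (n : ℚ) := by
  haveI : Finite (MaximalSpectrum O) := inferInstance
  obtain ⟨P, ⟨N, hN⟩, hdeg⟩ :=
    Groth.Agent.Helper8.KoszulLib.exists_hilbertSamuel_polynomial (A := O) O
  refine ⟨P, N, ?_, ?_⟩
  · rw [Module.supportDim_self_eq_ringKrullDim, hr] at hdeg
    exact_mod_cast hdeg
  · intro n hn
    obtain ⟨ℓ, hℓ, hP⟩ := hN n hn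
    refine ⟨ℓ, ?_, hP⟩
    have hsub : (Ring.jacobson O ^ n • (⊤ : Submodule O O)) = (maximalIdeal O) ^ n := by
      rw [IsLocalRing.ringJacobson_eq_maximalIdeal, smul_eq_mul, Ideal.mul_top]
    rw [hsub] at hℓ
    exact hℓ

theorem main (r : ℕ) (hr : ringKrullDim O = r) (ε : ℝ) (hε : 0 < ε) :
    ∃ (I : Ideal O) (e : ℝ), I ≤ maximalIdeal O ∧
      (∃ N : ℕ, maximalIdeal O ^ N ≤ I) ∧
      Tendsto (fun n : ℕ => (r.factorial : ℝ) *
        ((Module.length O (O ⧸ I ^ n)).toNat : ℝ) / (n : ℝ) ^ r) atTop (nhds e) ∧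
      (1 - ε) * ((r.factorial : ℝ) * ((Module.length O (O ⧸ I)).toNat : ℝ)) ≤ e := by
  obtain ⟨P, N, hdeg, hP⟩ := exists_HS O r hr
  set PR : ℝ[X] := P.map (algebraMap ℚ ℝ) with hPR
  have hPRdeg : PR.natDegree = r := by rw [hPR, Polynomial.natDegree_map, hdeg]
  have hL : ∀ n : ℕ, N ≤ n →
      ((Module.length O (O ⧸ (maximalIdeal O) ^ n)).toNat : ℝ) = PR.eval (n : ℝ) := by
    intro n hn
    obtain ⟨ℓ, hℓ, hPn⟩ := hP n hn
    rw [hℓ, ENat.toNat_natCast, hPR, Polynomial.eval_natCast_map, ← hPn]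
    simp
  have hpos : ∀ n : ℕ, max N 1 ≤ n → 0 < PR.eval (n : ℝ) := by
    intro n hn
    have hn1 : N ≤ n := le_trans (le_max_left _ _) hn
    have hn2 : 1 ≤ n := le_trans (le_max_right _ _) hn
    rw [← hL n hn1]
    obtain ⟨ℓ, hℓ, hPn⟩ := hP n hn1
    rw [hℓ, ENat.toNat_natCast]
    have hne : ℓ ≠ 0 := by
      intro h0
      rw [h0] at hℓ
      have hsub : Subsingleton (O ⧸ (maximalIdeal O) ^ n) := Module.length_eq_zero_iff.1 hℓ
      have hnt : Nontrivial (O ⧸ (maximalIdeal O) ^ n) := by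
        rw [Ideal.Quotient.nontrivial_iff]
        intro htop
        have h1 : (maximalIdeal O) ^ n ≤ maximalIdeal O := Ideal.pow_le_self (by omega)
        rw [htop] at h1
        exact (maximalIdeal.isMaximal O).ne_top (top_le_iff.1 h1)
      exact not_subsingleton _ hsub
    exact_mod_cast Nat.pos_of_ne_zero hne
  have hPRne : PR ≠ 0 := by
    intro h0
    have := hpos (max N 1) le_rfl
    rw [h0, Polynomial.eval_zero] at this
    exact lt_irrefl _ this
  obtain ⟨k, hkN, hk0, hk⟩ := exists_good_k PR hPRne (max N 1) hpos ε hε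
  rw [hPRdeg] at hk
  have hkN' : N ≤ k := le_trans (le_max_left _ _) hkN
  refine ⟨maximalIdeal O ^ k, (r.factorial : ℝ) * (PR.leadingCoeff * (k : ℝ) ^ r),
    Ideal.pow_le_self hk0.ne', ⟨k, le_rfl⟩, ?_, ?_⟩
  · have h1 := tendsto_eval_natCast_div PR hPRne k hk0
    rw [hPRdeg] at h1
    have h2 := h1.const_mul (r.factorial : ℝ)
    refine h2.congr' ?_
    filter_upwards [eventually_ge_atTop N] with n hn
    have hkn : N ≤ k * n := le_trans hn (Nat.le_mul_of_pos_left n hk0)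
    have e1 : (maximalIdeal O ^ k) ^ n = maximalIdeal O ^ (k * n) := (pow_mul _ _ _).symm
    rw [e1, hL (k * n) hkn]
    push_cast
    ring
  · have e1 : ((Module.length O (O ⧸ maximalIdeal O ^ k)).toNat : ℝ) = PR.eval (k : ℝ) :=
      hL k hkN'
    rw [e1]
    have hfac : (0 : ℝ) ≤ (r.factorial : ℝ) := by positivity
    calc (1 - ε) * ((r.factorial : ℝ) * PR.eval (k : ℝ))
        = (r.factorial : ℝ) * ((1 - ε) * PR.eval (k : ℝ)) := by ring
      _ ≤ (r.factorial : ℝ) * (PR.leadingCoeff * (k : ℝ) ^ r) :=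
          mul_le_mul_of_nonneg_left hk hfac

end HS

end Groth.Agent.Lib.Helper6.FlatMult
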